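import Groth.Agent.FrobTr29.TracePow
import Groth.Agent.H23.DblAlg
import Groth.Agent.AmpleVan.AdicBase
import Groth.Agent.QCoh.AffineCohom
import Groth.Agent.QCoh.OpenSub
import Groth.Prelude.Def_Frob
import Groth.Prelude.Def_ClSub2

/-!
The cokernel of Frobenius is a retract of the direct image of that of a cover of degree prime to `p`.
-/

universe u

open CategoryTheory CategoryTheory.Limits AlgebraicGeometry Opposite

namespace Groth.Agent.FrobTr29

open H23.FinTrace

variable (p : ℕ) [Fact p.Prime] {X Y : Scheme.{u}} (f : Y ⟶ X) [IsFinite f]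
  [FrobSch.IsCharP X p] [FrobSch.IsCharP Y p]

/-- The direct image algebra. -/
noncomputable abbrev pAlg : RelSpec.QCAlg X := RelSpec.QCAlg.directImage f

variable {f} (hA : FlatMod.IsFinLocFree (pAlg f).toModule)

theorem trGlue_pow (W : X.Opens) (a : (pAlg f).presheaf.obj (op W)) :
    trGlue hA W (a ^ p) = trGlue hA W a ^ p := by
  refine trGlue_eq hA fun V h hV => ?_
  rw [map_pow, trGlue_spec hA W a V h hV, map_pow]
  letI := alg (pAlg f) V
  haveI := (free_finite hV).1
  haveI := (free_finite hV).2
  exact (trace_pow_char p (FrobSch.natCast_eq_zero_app X p V) _).symm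

variable (f) in
/-- Pullback of functions, between Frobenius direct images. -/
noncomputable def sHom : (Scheme.Modules.pushforward (FrobSch.frob X p)).obj (Coh.structureModule X) ⟶
    (Scheme.Modules.pushforward f).obj
      ((Scheme.Modules.pushforward (FrobSch.frob Y p)).obj (Coh.structureModule Y)) :=
  ⟨PresheafOfModules.homMk
    { app := fun U => AddCommGrpCat.ofHom ((f.app U.unop).hom : Γ(X, U.unop) →+* Γ(Y, f ⁻¹ᵁ U.unop)).toAddMonoidHom
      naturality := fun U V i => by
        ext s
        exact congr($(f.naturality i) s) }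
    (fun U r a => by
      let a' : Γ(X, U.unop) := a
      let r' : Γ(X, U.unop) := r
      show f.app U.unop (r' ^ p * a') = f.app U.unop r' ^ p * f.app U.unop a'
      rw [map_mul, map_pow])⟩

/-- The trace, between Frobenius direct images. -/
noncomputable def tHom : (Scheme.Modules.pushforward f).obj
      ((Scheme.Modules.pushforward (FrobSch.frob Y p)).obj (Coh.structureModule Y)) ⟶
    (Scheme.Modules.pushforward (FrobSch.frob X p)).obj (Coh.structureModule X) :=
  ⟨PresheafOfModules.homMk
    { app := fun W => AddCommGrpCat.ofHom (AddMonoidHom.mk' (trGlue hA W.unop) (trGlue_add hA W.unop))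
      naturality := fun W W' i => by
        ext a
        exact trGlue_res hA i.unop.le a }
    (fun W r a => by
      let a' : (pAlg f).presheaf.obj W := a
      let r' : Γ(X, W.unop) := r
      show trGlue hA W.unop (((pAlg f).str.app W).hom r' ^ p * a') = r' ^ p * trGlue hA W.unop a'
      rw [← map_pow]
      exact trGlue_str_mul hA W.unop (r' ^ p) a')⟩

variable (f) in
theorem unit_sHom : ClSub.unitToPush (FrobSch.frob X p) ≫ sHom p f =
    ClSub.unitToPush f ≫ (Scheme.Modules.pushforward f).map (ClSub.unitToPush (FrobSch.frob Y p)) := by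
  refine Scheme.Modules.hom_ext _ _ fun U => ?_
  ext a
  exact map_pow (f.app U).hom (show Γ(X, U) from a) p

theorem map_tHom : (Scheme.Modules.pushforward f).map (ClSub.unitToPush (FrobSch.frob Y p)) ≫ tHom p hA =
    trHom hA ≫ ClSub.unitToPush (FrobSch.frob X p) := by
  refine Scheme.Modules.hom_ext _ _ fun U => ?_
  ext a
  exact trGlue_pow p hA U (show (pAlg f).presheaf.obj (op U) from a)

theorem sHom_tHom {d : ℕ} (hd : FlatMod.IsFinLocFreeOfRank d (pAlg f).toModule) :
    sHom p f ≫ tHom p hA = d • 𝟙 _ := by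
  obtain ⟨τ, hτ, -⟩ := existsUnique_isTrace hA
  have h := H23.DblAlg.strMod_comp_trace hd hτ
  rw [isTrace_app hτ hA] at h
  refine Scheme.Modules.hom_ext _ _ fun U => ?_
  ext a
  let ev : ∀ {M N : X.Modules} (m : Γ(M, U)), (M ⟶ N) →+ Γ(N, U) := fun {M N} m =>
    { toFun := fun φ => φ.app U m, map_zero' := rfl, map_add' := fun _ _ => rfl }
  have h1 := congrArg (fun φ => φ.app U (show Γ(X, U) from a)) h
  refine h1.trans ?_
  refine (map_nsmul (ev (M := Coh.structureModule X) (N := Coh.structureModule X) (show Γ(X, U) from a)) d (𝟙 _)).trans ?_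
  exact (map_nsmul (ev (M := (Scheme.Modules.pushforward (FrobSch.frob X p)).obj (Coh.structureModule X))
    (N := (Scheme.Modules.pushforward (FrobSch.frob X p)).obj (Coh.structureModule X)) a) d (𝟙 _)).symm

variable (X) in
theorem p_smul_id : p • 𝟙 ((Scheme.Modules.pushforward (FrobSch.frob X p)).obj (Coh.structureModule X)) = 0 := by
  refine Scheme.Modules.hom_ext _ _ fun U => ?_
  ext a
  let ev : (((Scheme.Modules.pushforward (FrobSch.frob X p)).obj (Coh.structureModule X)) ⟶
      ((Scheme.Modules.pushforward (FrobSch.frob X p)).obj (Coh.structureModule X))) →+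
      Γ((Scheme.Modules.pushforward (FrobSch.frob X p)).obj (Coh.structureModule X), U) :=
    { toFun := fun φ => φ.app U a, map_zero' := rfl, map_add' := fun _ _ => rfl }
  refine (map_nsmul ev p (𝟙 _)).trans ?_
  show p • (show Γ(X, U) from a) = 0
  rw [nsmul_eq_mul, FrobSch.natCast_eq_zero_app, zero_mul]

theorem isQCoh_frobPush (Z : Scheme.{u}) [FrobSch.IsCharP Z p] :
    Coh.IsQCoh ((Scheme.Modules.pushforward (FrobSch.frob Z p)).obj (Coh.structureModule Z)) := by
  haveI : IsAffineHom (FrobSch.frob Z p) := ⟨fun U hU => hU⟩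
  exact QCoh.isQCoh_pushforward _ QCoh.isQCoh_structureModule

theorem exists_retract {d : ℕ} (hd : FlatMod.IsFinLocFreeOfRank d (pAlg f).toModule) (hp : ¬ p ∣ d) :
    ∃ (i : cokernel (ClSub.unitToPush (FrobSch.frob X p)) ⟶
        (Scheme.Modules.pushforward f).obj (cokernel (ClSub.unitToPush (FrobSch.frob Y p))))
      (r : (Scheme.Modules.pushforward f).obj (cokernel (ClSub.unitToPush (FrobSch.frob Y p))) ⟶
        cokernel (ClSub.unitToPush (FrobSch.frob X p))), i ≫ r = 𝟙 _ := by
  have hA := H23.DblAlg.isFinLocFree_of_rank hd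
  let uX := ClSub.unitToPush (FrobSch.frob X p)
  let uY := ClSub.unitToPush (FrobSch.frob Y p)
  let F := Scheme.Modules.pushforward f
  haveI := (Scheme.Modules.pullbackPushforwardAdjunction f).isRightAdjoint
  haveI : PreservesFiniteLimits F := inferInstance
  let i : cokernel uX ⟶ F.obj (cokernel uY) := cokernel.desc uX (sHom p f ≫ F.map (cokernel.π uY)) (by
    rw [← Category.assoc, unit_sHom, Category.assoc, ← F.map_comp, cokernel.condition, F.map_zero, comp_zero])
  haveI : Epi (F.map (cokernel.π uY)) := AmpleVan.epi_push f (isQCoh_frobPush p Y)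
    (QCoh.isQCoh_cokernel QCoh.isQCoh_structureModule (isQCoh_frobPush p Y) uY) _
  let g : F.obj ((Scheme.Modules.pushforward (FrobSch.frob Y p)).obj (Coh.structureModule Y)) ⟶ cokernel uX :=
    tHom p hA ≫ cokernel.π uX
  have hg : kernel.ι (F.map (cokernel.π uY)) ≫ g = 0 := by
    haveI : Epi (F.map (Abelian.factorThruImage uY)) := AmpleVan.epi_push f QCoh.isQCoh_structureModule
      (QCoh.isQCoh_kernel (isQCoh_frobPush p Y)
        (QCoh.isQCoh_cokernel QCoh.isQCoh_structureModule (isQCoh_frobPush p Y) uY) _) _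
    rw [← cancel_epi (kernelComparison (cokernel.π uY) F), kernelComparison_comp_ι_assoc, comp_zero,
      ← cancel_epi (F.map (Abelian.factorThruImage uY)), comp_zero, ← Category.assoc, ← F.map_comp,
      show Abelian.factorThruImage uY ≫ kernel.ι (cokernel.π uY) = uY from kernel.lift_ι _ _ _,
      show g = tHom p hA ≫ cokernel.π uX from rfl, ← Category.assoc, map_tHom]
    exact (Category.assoc (trHom hA) uX _).trans ((congrArg (trHom hA ≫ ·) (cokernel.condition uX)).trans comp_zero)
  let r : F.obj (cokernel uY) ⟶ cokernel uX := Abelian.epiDesc (F.map (cokernel.π uY)) g hg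
  have hir : i ≫ r = d • 𝟙 _ := by
    rw [← cancel_epi (cokernel.π uX), ← Category.assoc, cokernel.π_desc, Category.assoc, Abelian.comp_epiDesc,
      Preadditive.comp_nsmul, Category.comp_id, ← Category.assoc, sHom_tHom p hA hd, Preadditive.nsmul_comp,
      Category.id_comp]
  obtain ⟨c, m, hcm⟩ : ∃ c m : ℕ, c * d = m * p + 1 := by
    obtain ⟨c, -, hc⟩ := Nat.exists_mul_mod_eq_one_of_coprime (n := d) (k := p)
      ((Nat.Prime.coprime_iff_not_dvd Fact.out).2 hp).symm (Fact.out : p.Prime).one_lt
    refine ⟨c, d * c / p, ?_⟩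
    have := Nat.div_add_mod (d * c) p
    rw [hc, mul_comm p] at this
    rw [mul_comm c, this]
  refine ⟨i, c • r, ?_⟩
  rw [Preadditive.comp_nsmul, hir, smul_smul, hcm, add_smul, one_smul, mul_smul]
  rw [show p • 𝟙 (cokernel uX) = 0 from by
    rw [← cancel_epi (cokernel.π uX), Preadditive.comp_nsmul, Category.comp_id, comp_zero,
      ← Category.id_comp (cokernel.π uX), ← Preadditive.nsmul_comp, p_smul_id, zero_comp],
    smul_zero, zero_add]

theorem subsingleton_HH_cokernel {d : ℕ} (hd : FlatMod.IsFinLocFreeOfRank d (pAlg f).toModule) (hp : ¬ p ∣ d)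
    (n : ℕ) (hY : Subsingleton (Coh.HH Y (cokernel (ClSub.unitToPush (FrobSch.frob Y p))) n)) :
    Subsingleton (Coh.HH X (cokernel (ClSub.unitToPush (FrobSch.frob X p))) n) := by
  obtain ⟨i, r, hir⟩ := exists_retract p hd hp
  obtain ⟨e⟩ := QCoh.HH_push_of_isAffineHom f
    (QCoh.isQCoh_cokernel QCoh.isQCoh_structureModule (isQCoh_frobPush p Y)
      (ClSub.unitToPush (FrobSch.frob Y p))) n
  haveI : Subsingleton (Coh.HH X ((Scheme.Modules.pushforward f).obj
      (cokernel (ClSub.unitToPush (FrobSch.frob Y p)))) n) := e.symm.toEquiv.subsingleton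
  haveI : Subsingleton (Sheaf.H ((QCoh.toAbFunctor X).obj ((Scheme.Modules.pushforward f).obj
      (cokernel (ClSub.unitToPush (FrobSch.frob Y p))))) n) := e.symm.toEquiv.subsingleton
  refine Function.Injective.subsingleton (f := fun x => Sheaf.H.map ((QCoh.toAbFunctor X).map i) n x) ?_
  refine Function.LeftInverse.injective (g := fun x => Sheaf.H.map ((QCoh.toAbFunctor X).map r) n x) fun x => ?_
  show Sheaf.H.map _ n (Sheaf.H.map _ n x) = x
  rw [← Sheaf.H.map_comp_apply, ← Functor.map_comp, hir, CategoryTheory.Functor.map_id, Sheaf.H.map_id_apply]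

end Groth.Agent.FrobTr29
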