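import Mathlib

/-!
The trace of the `p`-th power of an endomorphism in characteristic `p`.
-/

universe u v

open Polynomial Matrix

namespace Groth.Agent.FrobTr29

variable {R : Type u} [CommRing R] (p : ℕ) [Fact p.Prime]

theorem charpoly_pow_char [ExpChar R p] [CharP R p] {n : Type v} [Fintype n] [DecidableEq n] [Nonempty n] (M : Matrix n n R) :
    (M ^ p).charpoly = M.charpoly.map (frobenius R p) := by
  apply Polynomial.expand_injective (Fact.out : p.Prime).pos
  rw [← Polynomial.map_expand, Polynomial.map_frobenius_expand]
  unfold Matrix.charpoly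
  rw [AlgHom.map_det, ← Matrix.det_pow]
  congr 1
  apply matPolyEquiv.injective
  rw [map_pow, matPolyEquiv_charmatrix, sub_pow_expChar_of_commute, ← C_pow]
  · exact (id (matPolyEquiv_eq_X_pow_sub_C p M) :)
  · exact (C M).commute_X

theorem matrix_trace_pow_char (hp : (p : R) = 0) {n : Type v} [Fintype n] [DecidableEq n] (M : Matrix n n R) :
    (M ^ p).trace = M.trace ^ p := by
  rcases subsingleton_or_nontrivial R with hR | hR
  · exact Subsingleton.elim _ _
  have : CharP R p := (CharP.charP_iff_prime_eq_zero Fact.out).2 hp
  rcases (isEmpty_or_nonempty n).symm with hn | hn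
  · rw [Matrix.trace_eq_neg_charpoly_coeff, Matrix.trace_eq_neg_charpoly_coeff, charpoly_pow_char p M,
      Polynomial.coeff_map, ← frobenius_def, map_neg]
  · simp [Matrix.trace, (Fact.out : p.Prime).ne_zero]

theorem trace_pow_char (hp : (p : R) = 0) {S : Type v} [CommRing S] [Algebra R S] [Module.Free R S]
    [Module.Finite R S] (a : S) : Algebra.trace R S (a ^ p) = Algebra.trace R S a ^ p := by
  classical
  let b := Module.Free.chooseBasis R S
  rw [Algebra.trace_eq_matrix_trace b, Algebra.trace_eq_matrix_trace b, map_pow]
  exact matrix_trace_pow_char p hp _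

end Groth.Agent.FrobTr29
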